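import Groth.Agent.CommAlg4.ASPartialFrac

/-! Places and repartitions of `y² + y = f` in characteristic `2`. -/

set_option autoImplicit false
set_option backward.isDefEq.respectTransparency false
set_option backward.isDefEq.respectTransparency.types false

open FunFld WithZero Polynomial Groth.Agent.FF Groth.Agent.CommAlg4.ASchar2
open scoped Classical

set_option synthInstance.maxHeartbeats 100000

namespace Groth.Agent.ASAdele24

universe u v

variable {k : Type u} {K : Type v} [Field k] [Field K] [Algebra k K] [Algebra (RatFunc k) K]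
  [IsScalarTower k (RatFunc k) K]

local notation "Rk" => RatFunc k
local notation "j" => algebraMap (RatFunc k) K

/-- The standing hypotheses. -/
structure Setup (k : Type u) (K : Type v) [Field k] [Field K] [Algebra k K] [Algebra (RatFunc k) K]
    (y : K) (f : RatFunc k) (B : Finset k) (d : k → ℕ) : Prop where
  hK : IsFunctionField k K
  data : Data k K y f
  hd : ∀ β ∈ B, Odd (d β)
  hpole : ∀ (p : Place k (RatFunc k)) (β : k), β ∈ B →
    p.1 ((RatFunc.X : RatFunc k) - RatFunc.C β) < 1 → p.ord f = -(d β : ℤ)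
  hint : ∀ p : Place k (RatFunc k), (∀ β ∈ B, 1 ≤ p.1 ((RatFunc.X : RatFunc k) - RatFunc.C β)) → p.1 f ≤ 1

variable {y : K} {f : RatFunc k} {B : Finset k} {d : k → ℕ}

omit [IsScalarTower k (RatFunc k) K] in
theorem setup_mk [CharP k 2] (hK : IsFunctionField k K) (hdeg : Module.finrank (RatFunc k) K = 2)
    (hy : y ∉ Set.range (algebraMap (RatFunc k) K)) (heq : y ^ 2 + y = algebraMap (RatFunc k) K f)
    (hd : ∀ β ∈ B, Odd (d β))
    (hpole : ∀ (p : Place k (RatFunc k)) (β : k), β ∈ B →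
      p.1 ((RatFunc.X : RatFunc k) - RatFunc.C β) < 1 → p.ord f = -(d β : ℤ))
    (hint : ∀ p : Place k (RatFunc k), (∀ β ∈ B, 1 ≤ p.1 ((RatFunc.X : RatFunc k) - RatFunc.C β)) → p.1 f ≤ 1) :
    Setup k K y f B d := by
  have hf0 : f ≠ 0 := fun h => by
    have h1 : y * (y + 1) = 0 := by rw [mul_add, ← sq, mul_one, heq, h, map_zero]
    rcases mul_eq_zero.mp h1 with h2 | h2
    · exact hy ⟨0, by rw [map_zero, h2]⟩
    · exact hy ⟨-1, by rw [map_neg, map_one]; exact (eq_neg_of_add_eq_zero_left h2).symm⟩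
  refine ⟨hK, ⟨ringChar.eq k 2, hdeg, hy, heq, fun p hp => ?_⟩, hd, hpole, hint⟩
  by_cases h : ∃ α ∈ B, p = placeAt α
  · obtain ⟨α, hα, rfl⟩ := h
    rw [(ord_at hd f hpole hα).1]
    exact ((Int.odd_coe_nat (d α)).mpr (hd α hα)).neg
  · push Not at h
    exact absurd hp (ord_off f hint hf0 h)

omit [Algebra k K] [Algebra (RatFunc k) K] [IsScalarTower k (RatFunc k) K] in
theorem ord_zpow {L : Type*} [Field L] [Algebra k L] (P : Place k L) (a : L) (n : ℤ) :
    P.ord (a ^ n) = n * P.ord a := by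
  simp only [Place.ord, map_zpow₀, log_zpow, smul_eq_mul]; ring

theorem algebraMap_C (β : k) : j ((RatFunc.X : Rk) - RatFunc.C β) =
    j RatFunc.X - algebraMap k K β := by
  rw [map_sub, ← RatFunc.algebraMap_eq_C, ← IsScalarTower.algebraMap_apply]

variable [PerfectField k]

theorem Setup.over_of_lt (s : Setup k K y f B d) {P : Place k K} {β : k}
    (h : P.1 (j RatFunc.X - algebraMap k K β) < 1) : IsOver P (placeAt β) := by
  haveI := s.data.finite
  obtain ⟨p, e, -, he⟩ := exists_isOverWith (K := Rk) isFF'_ratFunc P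
  have hp : p.1 ((RatFunc.X : Rk) - RatFunc.C β) < 1 := by
    rw [← ow_lt_one_iff he, algebraMap_C]; exact h
  exact eq_placeAt hp ▸ ⟨e, he⟩

theorem Setup.at_pole (s : Setup k K y f B d) {P : Place k K} {α : k} (hα : α ∈ B) (h : IsOver P (placeAt α)) :
    IsOverWith P (placeAt α) 2 ∧ P.ord y = -(d α : ℤ) := by
  have hneg : (placeAt α).ord f < 0 := by
    rw [(ord_at s.hd f s.hpole hα).1]; obtain ⟨r, hr⟩ := s.hd α hα; omega
  obtain ⟨-, -, hall⟩ := s.data.bad hneg
  obtain ⟨he, hy⟩ := hall P h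
  refine ⟨he, ?_⟩
  rw [ord_eq_of_val P hy, (ord_at s.hd f s.hpole hα).1]

theorem Setup.unique_over (s : Setup k K y f B d) {P Q : Place k K} {α : k} (hα : α ∈ B)
    (hP : IsOver P (placeAt α)) (hQ : IsOver Q (placeAt α)) : Q = P := by
  haveI := s.data.finite
  haveI := s.data.separable
  have hneg : (placeAt α).ord f < 0 ∧ Odd ((placeAt α).ord f) := by
    rw [(ord_at s.hd f s.hpole hα).1]; obtain ⟨r, hr⟩ := s.hd α hα
    exact ⟨by omega, ((Int.odd_coe_nat (d α)).mpr (s.hd α hα)).neg⟩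
  obtain ⟨R, -, hu⟩ := ((S12519.result k K s.data.char s.data.rank y s.data.ne f s.data.eq (placeAt α)).1 hneg).1
  rw [hu Q hQ, hu P hP]

theorem Setup.ord_sub_pow (s : Setup k K y f B d) (P : Place k K) (α : k) (i : ℤ) :
    P.ord (y * (j RatFunc.X - algebraMap k K α) ^ i) =
      P.ord y + i * P.ord (j RatFunc.X - algebraMap k K α) := by
  have hy0 : y ≠ 0 := fun h => s.data.ne ⟨0, by rw [map_zero, h]⟩
  have hu : j RatFunc.X - algebraMap k K α ≠ 0 := by
    rw [← algebraMap_C]; exact (_root_.map_ne_zero j).mpr (X_sub_C_ne α)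
  rw [ord_mul P hy0 (zpow_ne_zero _ hu), ord_zpow]

theorem Setup.ord_sub_self (s : Setup k K y f B d) {P : Place k K} {α : k} (hα : α ∈ B)
    (h : IsOver P (placeAt α)) : P.ord (j RatFunc.X - algebraMap k K α) = 2 := by
  rw [← algebraMap_C, ow_ord_eq (s.at_pole hα h).1]
  have := ord_placeAt α
  rw [invX, ord_inv] at this
  omega

theorem Setup.ord_sub_other (s : Setup k K y f B d) {P : Place k K} {α β : k} (hne : β ≠ α)
    (hβ : P.1 (j RatFunc.X - algebraMap k K β) < 1) : P.ord (j RatFunc.X - algebraMap k K α) = 0 := by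
  obtain ⟨e, he⟩ := s.over_of_lt hβ
  rw [← algebraMap_C, ow_ord_eq he]
  have h1 := ord_invX_finite (finite_placeAt β).1 α
  rw [if_neg (fun h => hne (placeAt_injective h)), invX, ord_inv] at h1
  rw [show (placeAt β).ord ((RatFunc.X : Rk) - RatFunc.C α) = 0 by omega, mul_zero]

omit [PerfectField k] [Algebra k K] [Algebra (RatFunc k) K] [IsScalarTower k (RatFunc k) K] in
theorem ne_placeAt_of_infinite {p : Place k Rk} (hX : ¬ p.1 RatFunc.X ≤ 1) (β : k) : p ≠ placeAt β :=
  fun h => hX (h ▸ (finite_placeAt β).1)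

theorem Setup.at_infinity (s : Setup k K y f B d) {P : Place k K} (h : 1 < P.1 (j RatFunc.X)) :
    P.1 y ≤ 1 ∧ ∀ α : k, P.ord (j RatFunc.X - algebraMap k K α) = -1 := by
  haveI := s.data.finite
  obtain ⟨p, e, -, he⟩ := exists_isOverWith (K := Rk) isFF'_ratFunc P
  have hX : ¬ p.1 RatFunc.X ≤ 1 := fun hle => not_lt.mpr ((ow_le_one_iff he _).mpr hle) h
  obtain ⟨h1, hy⟩ := s.data.good (ord_off f s.hint s.data.f_ne fun β _ => ne_placeAt_of_infinite hX β) ⟨e, he⟩
  refine ⟨hy, fun α => ?_⟩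
  rw [← algebraMap_C, ow_ord_eq h1]
  have := ord_invX_infinite hX α
  rw [invX, ord_inv] at this
  omega

theorem Setup.good_finite (s : Setup k K y f B d) {P : Place k K}
    (hoff : ∀ β ∈ B, 1 ≤ P.1 (j RatFunc.X - algebraMap k K β)) : P.1 y ≤ 1 := by
  haveI := s.data.finite
  obtain ⟨p, e, -, he⟩ := exists_isOverWith (K := Rk) isFF'_ratFunc P
  refine (s.data.good (ord_off f s.hint s.data.f_ne fun β hβ hp => ?_) ⟨e, he⟩).2
  have h1 := hoff β hβ
  rw [← algebraMap_C] at h1
  exact not_lt.mpr h1 ((ow_lt_one_iff he _).mpr (hp ▸ (finite_placeAt β).2))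

/-- At infinity `y` is a unit at some place. -/
theorem Setup.exists_unit_infinity (s : Setup k K y f B d) :
    ∃ P : Place k K, 1 < P.1 (j RatFunc.X) ∧ P.ord y = 0 := by
  haveI := s.data.finite
  have hy0 : y ≠ 0 := fun h => s.data.ne ⟨0, by rw [map_zero, h]⟩
  obtain ⟨p, hp⟩ := exists_one_lt_val (isFunctionField_ratFunc (k := k))
    (transcendental_of_adjoin_eq_top isFunctionField_ratFunc RatFunc.adjoin_X)
  have hX : ¬ p.1 RatFunc.X ≤ 1 := not_le.mpr hp
  have hoff := ord_off f s.hint s.data.f_ne fun β _ => ne_placeAt_of_infinite hX β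
  obtain ⟨t, ht0, ht⟩ := exists_uniformizer p
  by_contra hc
  push Not at hc
  have h := (s.data.local_iff p 0 t⁻¹).mp fun P hP => by
    obtain ⟨he, hy⟩ := s.data.good hoff hP
    have hlt : 1 < P.1 (j RatFunc.X) := by
      rw [← not_le, ow_le_one_iff he]; exact hX
    have h1 := hc P hlt
    have h2 := (val_le_one_iff P hy0).mp hy
    rw [map_zero, zero_add, val_le_one_iff P (mul_ne_zero ((_root_.map_ne_zero j).mpr (inv_ne_zero ht0)) hy0),
      ord_mul P ((_root_.map_ne_zero j).mpr (inv_ne_zero ht0)) hy0, ow_ord_eq he, ord_inv, ord_eq_of_val p ht]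
    omega
  rw [wt, if_neg hoff, neg_zero, exp_zero, map_inv₀, ht, ← exp_neg] at h
  have := h.2
  rw [← exp_zero, exp_le_exp] at this
  omega

theorem Setup.pl_over (s : Setup k K y f B d) {Pl : k → Place k K}
    (hPl : ∀ β ∈ B, (Pl β).1 (j RatFunc.X - algebraMap k K β) < 1) {β : k} (hβ : β ∈ B) :
    IsOver (Pl β) (placeAt β) := s.over_of_lt (hPl β hβ)

omit [Algebra k K] [Algebra (RatFunc k) K] [IsScalarTower k (RatFunc k) K] in
theorem genus_zero_adele (a : Place k Rk → Rk) (ha : a ∈ adele k Rk) :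
    a ∈ AD (0 : Divisor k Rk) ⊔ LinearMap.range (diag k Rk) := by
  have hR := isFunctionField_ratFunc (k := k)
  have h : defect (0 : Divisor k Rk) = genus k Rk := by
    rw [defect, deg_zero, (finrank_L_zero hR).2, genus_ratFunc]; norm_num
  exact adele_eq_sup hR h ▸ ha

/-- An element of `k(x)` at the place above a pole is a boundary. -/
theorem Setup.single_base_mem (s : Setup k K y f B d) {P : Place k K} {α : k} (hα : α ∈ B)
    (hP : IsOver P (placeAt α)) (g : Rk) :
    (Pi.single P (j g) : Place k K → K) ∈ AD (0 : Divisor k K) ⊔ LinearMap.range (diag k K) := by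
  haveI := s.data.finite
  have ha : (Pi.single (placeAt α) g : Place k Rk → Rk) ∈ adele k Rk :=
    Filter.mem_cofinite.mpr ((Set.finite_singleton (placeAt α)).subset fun Q hQ => by
      by_contra hne
      apply hQ
      show Q.1 ((Pi.single (placeAt α) g : Place k Rk → Rk) Q) ≤ 1
      rw [Pi.single_eq_of_ne hne, map_zero]
      exact zero_le)
  obtain ⟨a, haD, _, ⟨h, rfl⟩, hah⟩ := Submodule.mem_sup.mp (genus_zero_adele _ ha)
  refine Submodule.mem_sup.mpr ⟨Pi.single P (j g) - diag k K (j h), fun Q => ?_, diag k K (j h), ⟨_, rfl⟩,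
    sub_add_cancel _ _⟩
  rw [Finsupp.zero_apply, exp_zero]
  obtain ⟨p, e, -, he⟩ := exists_isOverWith (K := Rk) isFF'_ratFunc Q
  have h1 := haD p
  rw [Finsupp.zero_apply, exp_zero] at h1
  have h2 : a p + h = (Pi.single (placeAt α) g : Place k Rk → Rk) p := congrFun hah p
  show Q.1 ((Pi.single P (j g) : Place k K → K) Q - j h) ≤ 1
  by_cases hQ : Q = P
  · subst hQ
    have hp : p = placeAt α := isOver_unique ⟨e, he⟩ hP
    subst hp
    rw [Pi.single_eq_same] at h2
    rw [Pi.single_eq_same, ← map_sub, ow_le_one_iff he, show g - h = a (placeAt α) by rw [← h2]; ring]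
    exact h1
  · have hp : p ≠ placeAt α := fun hp => hQ (s.unique_over hα hP (hp ▸ ⟨e, he⟩))
    rw [Pi.single_eq_of_ne hp] at h2
    rw [Pi.single_eq_of_ne hQ, zero_sub, Valuation.map_neg, ow_le_one_iff he,
      show h = -a p from eq_neg_of_add_eq_zero_right h2, Valuation.map_neg]
    exact h1

theorem Setup.square_eq (s : Setup k K y f B d) (α : k) (i : ℕ) :
    (y * (j RatFunc.X - algebraMap k K α) ^ i) ^ 2 - y * (j RatFunc.X - algebraMap k K α) ^ (2 * i) =
      j (f * ((RatFunc.X : Rk) - RatFunc.C α) ^ (2 * i)) := by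
  have h2 : (2 : K) = 0 := s.data.two K
  rw [map_mul, map_pow, algebraMap_C, ← s.data.eq]
  linear_combination (-(y * (j RatFunc.X - algebraMap k K α) ^ (2 * i))) * h2

theorem Setup.frob_high (s : Setup k K y f B d) {P : Place k K} {α : k} (hα : α ∈ B) (hP : IsOver P (placeAt α))
    {i : ℕ} (hi : d α < 4 * i + 1) :
    (Pi.single P ((y * (j RatFunc.X - algebraMap k K α) ^ i) ^ 2) : Place k K → K) ∈
      AD (0 : Divisor k K) ⊔ LinearMap.range (diag k K) := by
  have hint : (Pi.single P (y * (j RatFunc.X - algebraMap k K α) ^ (2 * i)) : Place k K → K) ∈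
      AD (0 : Divisor k K) ⊔ LinearMap.range (diag k K) := by
    refine Submodule.mem_sup_left fun Q => ?_
    rw [Finsupp.zero_apply, exp_zero]
    by_cases hQ : Q = P
    · subst hQ
      have hy0 : y ≠ 0 := fun h => s.data.ne ⟨0, by rw [map_zero, h]⟩
      have hu : j RatFunc.X - algebraMap k K α ≠ 0 := by
        rw [← algebraMap_C]; exact (_root_.map_ne_zero j).mpr (X_sub_C_ne α)
      rw [Pi.single_eq_same, val_le_one_iff Q (mul_ne_zero hy0 (pow_ne_zero _ hu)), ord_mul Q hy0 (pow_ne_zero _ hu),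
        (s.at_pole hα hP).2, ord_pow', s.ord_sub_self hα hP]
      push_cast
      omega
    · rw [Pi.single_eq_of_ne hQ, map_zero]; exact zero_le
  have h1 := add_mem (s.single_base_mem hα hP (f * ((RatFunc.X : Rk) - RatFunc.C α) ^ (2 * i))) hint
  rwa [← Pi.single_add, ← s.square_eq, sub_add_cancel] at h1

/-! ### Linear independence of the repartitions -/

omit [PerfectField k] [Algebra k K] [Algebra (RatFunc k) K] [IsScalarTower k (RatFunc k) K] in
/-- A polynomial in a uniformiser vanishing to order above its degree is zero. -/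
theorem eq_zero_of_val_aeval {p : Place k Rk} {t : Rk} (ht : p.1 t = exp (-1 : ℤ)) {q : Polynomial k} {n : ℕ}
    (hq : q.natDegree ≤ n) (h : p.1 (aeval t q) ≤ exp (-((n : ℤ) + 1))) : q = 0 := by
  by_contra hne
  obtain ⟨m, g, hg, rfl⟩ := WfDvdMonoid.max_power_factor hne Polynomial.irreducible_X
  have hg0 : g.coeff 0 ≠ 0 := fun h0 => hg (Polynomial.X_dvd_iff.mpr h0)
  have ht1 : p.1 t < 1 := by rw [ht, ← exp_zero, exp_lt_exp]; norm_num
  have hg1 : p.1 (aeval t g) = 1 := by
    have e : g = Polynomial.X * g.divX + Polynomial.C (g.coeff 0) := (Polynomial.X_mul_divX_add g).symm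
    rw [e, map_add, map_mul, Polynomial.aeval_X, Polynomial.aeval_C, Valuation.map_add_eq_of_lt_right p.1 ?_,
      val_algebraMap p hg0]
    rw [val_algebraMap p hg0, map_mul]
    exact lt_of_le_of_lt (mul_le_of_le_one_right' (HyperGenus.val_aeval_le_one p ht1.le _)) ht1
  rw [map_mul, map_pow, Polynomial.aeval_X, map_mul, map_pow, hg1, mul_one, ht, ← exp_nsmul, exp_le_exp,
    nsmul_eq_mul] at h
  have hd : m ≤ (Polynomial.X ^ m * g).natDegree := by
    rw [Polynomial.natDegree_mul (pow_ne_zero _ Polynomial.X_ne_zero) (fun h0 => hg0 (by rw [h0, Polynomial.coeff_zero])),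
      Polynomial.natDegree_X_pow]
    omega
  omega

omit [PerfectField k] [Algebra k K] [Algebra (RatFunc k) K] [IsScalarTower k (RatFunc k) K] in
theorem exists_const {a : Rk} (h : ∀ p : Place k Rk, p.1 a ≤ 1) : ∃ c : k, a = algebraMap k Rk c := by
  have hL : a ∈ L (0 : Divisor k Rk) := fun p => by rw [Finsupp.zero_apply, exp_zero]; exact h p
  rw [L_zero_eq isFunctionField_ratFunc, Submodule.mem_span_singleton] at hL
  obtain ⟨c, rfl⟩ := hL
  exact ⟨c, by rw [Algebra.smul_def, mul_one]⟩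

/-- The repartition classes are independent. -/
theorem Setup.coeff_eq_zero (s : Setup k K y f B d) (h0 : (0 : k) ∈ B) {Pl : k → Place k K}
    (hPl : ∀ β ∈ B, (Pl β).1 (j RatFunc.X - algebraMap k K β) < 1) (q : k → Polynomial k)
    (hq : ∀ β ∈ B, (q β).natDegree ≤ (d β - 1) / 2) (hq0 : (q 0).coeff 0 = 0)
    (h : (∑ β ∈ B, (Pi.single (Pl β) (j (aeval ((RatFunc.X : Rk) - RatFunc.C β) (q β)) * y) : Place k K → K)) ∈
      AD (0 : Divisor k K) ⊔ LinearMap.range (diag k K)) :
    ∀ β ∈ B, q β = 0 := by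
  haveI := s.data.finite
  set E := ∑ β ∈ B, (Pi.single (Pl β) (j (aeval ((RatFunc.X : Rk) - RatFunc.C β) (q β)) * y) : Place k K → K) with hE
  obtain ⟨a, haD, _, ⟨w, rfl⟩, haw⟩ := Submodule.mem_sup.mp h
  obtain ⟨⟨A, C⟩, hAC⟩ := s.data.toK_bij.2 w
  change j A + j C * y = w at hAC
  have hPinj : ∀ β ∈ B, ∀ γ ∈ B, Pl β = Pl γ → β = γ := fun β hβ γ hγ e =>
    placeAt_injective (isOver_unique (s.pl_over hPl hβ) (e ▸ s.pl_over hPl hγ))
  have hEval : ∀ (P : Place k K), P.1 (E P - w) ≤ 1 := fun P => by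
    rw [show E P - w = a P by rw [← congrFun haw P]; show a P + w - w = a P; ring]
    have := haD P
    rwa [Finsupp.zero_apply, exp_zero] at this
  have hEpl : ∀ β ∈ B, E (Pl β) = j (aeval ((RatFunc.X : Rk) - RatFunc.C β) (q β)) * y := fun β hβ => by
    rw [hE, Finset.sum_apply, Finset.sum_eq_single β]
    · exact Pi.single_eq_same _ _
    · intro γ hγ hne
      exact Pi.single_eq_of_ne (fun e => hne (hPinj β hβ γ hγ e).symm) _
    · exact fun hn => absurd hβ hn
  -- the coordinates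
  have hloc : ∀ p : Place k Rk, ∀ g : Rk, (∀ P : Place k K, IsOver P p → E P = j g * y) →
      p.1 A ≤ 1 ∧ p.1 (C - g) ≤ exp (-wt f p) := fun p g hg => by
    refine (s.data.local_iff p A (C - g)).mp fun P hP => ?_
    rw [show j A + j (C - g) * y = -(E P - w) by rw [hg P hP, ← hAC, map_sub]; ring, Valuation.map_neg]
    exact hEval P
  have hoff : ∀ p : Place k Rk, (∀ β ∈ B, p ≠ placeAt β) → ∀ P : Place k K, IsOver P p → E P = j (0 : Rk) * y :=
    fun p hp P hP => by
      rw [map_zero, zero_mul, hE, Finset.sum_apply]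
      refine Finset.sum_eq_zero fun β hβ => Pi.single_eq_of_ne (fun e => hp β hβ ?_) _
      exact isOver_unique (e ▸ hP) (s.pl_over hPl hβ)
  have hat : ∀ β ∈ B, ∀ P : Place k K, IsOver P (placeAt β) →
      E P = j (aeval ((RatFunc.X : Rk) - RatFunc.C β) (q β)) * y := fun β hβ P hP => by
    rw [s.unique_over hβ (s.pl_over hPl hβ) hP, hEpl β hβ]
  have hC : ∀ p : Place k Rk, p.1 A ≤ 1 ∧ p.1 C ≤ 1 := fun p => by
    by_cases hp : ∃ β ∈ B, p = placeAt β
    · obtain ⟨β, hβ, rfl⟩ := hp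
      obtain ⟨h1, h2⟩ := hloc _ _ (hat β hβ)
      refine ⟨h1, ?_⟩
      rw [show C = (C - aeval ((RatFunc.X : Rk) - RatFunc.C β) (q β)) + aeval ((RatFunc.X : Rk) - RatFunc.C β) (q β) by ring]
      refine ((placeAt β).1.map_add _ _).trans (max_le (h2.trans ?_) (HyperGenus.val_aeval_le_one _ (finite_placeAt β).2.le _))
      rw [← exp_zero, exp_le_exp]
      linarith [wt_nonneg f (placeAt β)]
    · push Not at hp
      obtain ⟨h1, h2⟩ := hloc _ _ (hoff p hp)
      rw [sub_zero] at h2
      refine ⟨h1, h2.trans ?_⟩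
      rw [← exp_zero, exp_le_exp]
      linarith [wt_nonneg f p]
  obtain ⟨c, hc⟩ := exists_const fun p => (hC p).2
  have key : ∀ β ∈ B, q β = Polynomial.C c := fun β hβ => by
    have h2 := (hloc _ _ (hat β hβ)).2
    have ht : (placeAt β).1 ((RatFunc.X : Rk) - RatFunc.C β) = exp (-1 : ℤ) := by
      rw [val_eq_exp_neg_ord _ (X_sub_C_ne β)]
      have := ord_placeAt β
      rw [invX, ord_inv] at this
      congr 1
    refine (sub_eq_zero.mp (eq_zero_of_val_aeval ht (n := (d β - 1) / 2) (q := Polynomial.C c - q β) ?_ ?_)).symm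
    · exact (Polynomial.natDegree_sub_le _ _).trans (max_le (by simp) (hq β hβ))
    · rw [map_sub, Polynomial.aeval_C, ← hc]
      refine h2.trans ?_
      rw [exp_le_exp, (ord_at s.hd f s.hpole hβ).2]
      obtain ⟨r, hr⟩ := s.hd β hβ
      omega
  have hc0 : c = 0 := by rw [key 0 h0, Polynomial.coeff_C_zero] at hq0; exact hq0
  intro β hβ
  rw [key β hβ, hc0, map_zero]

end Groth.Agent.ASAdele24
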