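import Groth.Agent.ASAdele24.Basic

/-! The repartition basis of `H¹(O)` for `y² + y = f` in characteristic `2`. -/

set_option autoImplicit false
set_option backward.isDefEq.respectTransparency false
set_option backward.isDefEq.respectTransparency.types false

open FunFld WithZero Polynomial Groth.Agent.FF Groth.Agent.CommAlg4.ASchar2
open scoped Classical

set_option synthInstance.maxHeartbeats 100000

namespace Groth.Agent.ASAdele24

universe u v

variable {k : Type u} {K : Type v} [Field k] [Field K] [Algebra k K] [Algebra (RatFunc k) K]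
  [IsScalarTower k (RatFunc k) K] [PerfectField k]
variable {y : K} {f : RatFunc k} {B : Finset k} {d : k → ℕ}

local notation "j" => algebraMap (RatFunc k) K

omit [Algebra k K] [Algebra (RatFunc k) K] [IsScalarTower k (RatFunc k) K] [PerfectField k] in
/-- A linearly independent family of the right size in a submodule spans it modulo `M`. -/
theorem mem_sup_span_of_card {V : Type*} [AddCommGroup V] [Module k V] (A M : Submodule k V)
    {ι : Type*} [Fintype ι] (v : ι → V) (hv : ∀ i, v i ∈ A)
    (hli : LinearIndependent k (fun i => M.mkQ (v i)))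
    [FiniteDimensional k (↥A ⧸ Submodule.comap A.subtype M)]
    (hc : Fintype.card ι = Module.finrank k (↥A ⧸ Submodule.comap A.subtype M)) {a : V} (ha : a ∈ A) :
    a ∈ M ⊔ Submodule.span k (Set.range v) := by
  set φ := Submodule.mapQ (Submodule.comap A.subtype M) M A.subtype le_rfl with hφ
  set w : ι → ↥A ⧸ Submodule.comap A.subtype M := fun i => Submodule.Quotient.mk ⟨v i, hv i⟩ with hw
  have hφw : φ ∘ w = fun i => M.mkQ (v i) := rfl
  have hwli : LinearIndependent k w := .of_comp φ (hφw ▸ hli)
  have htop := hwli.span_eq_top_of_card_eq_finrank' hc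
  have h1 : M.mkQ a ∈ Submodule.map φ (Submodule.span k (Set.range w)) := by
    rw [htop]; exact ⟨Submodule.Quotient.mk ⟨a, ha⟩, trivial, rfl⟩
  rw [Submodule.map_span, ← Set.range_comp, hφw] at h1
  rw [show (fun i => M.mkQ (v i)) = M.mkQ ∘ v from rfl, Set.range_comp, ← Submodule.map_span] at h1
  obtain ⟨s, hs, hsa⟩ := h1
  rw [Submodule.mkQ_apply, Submodule.mkQ_apply, Submodule.Quotient.eq] at hsa
  exact Submodule.mem_sup.mpr ⟨a - s, by rw [← neg_sub]; exact M.neg_mem hsa, s, hs, sub_add_cancel a s⟩

/-- The exponent of an index. -/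
def ex (B : Finset k) (d : k → ℕ) : IdxA B d ⊕ IdxB B → ℕ := Sum.elim (fun a => a.1.2) (fun _ => 0)

omit [Algebra k K] [Algebra (RatFunc k) K] [IsScalarTower k (RatFunc k) K] [PerfectField k] in
theorem att_ex_injective : Function.Injective fun i => (att B d i, ex B d i) := by
  rintro (a | b) (a' | b') h <;> simp only [att, ex, Sum.elim_inl, Sum.elim_inr, Prod.mk.injEq] at h
  · exact congrArg Sum.inl (Subtype.ext (Prod.ext (Subtype.ext h.1) h.2))
  · have := a.2.1; omega
  · have := a'.2.1; omega
  · exact congrArg Sum.inr (Subtype.ext (Subtype.ext h.1))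

/-- The repartition attached to an index. -/
noncomputable def rep (y : K) (B : Finset k) (d : k → ℕ) (Pl : k → Place k K) :
    IdxA B d ⊕ IdxB B → (Place k K → K) :=
  Sum.elim
    (fun a : IdxA B d => Pi.single (Pl (a.1.1 : k)) (y * (j RatFunc.X - algebraMap k K (a.1.1 : k)) ^ a.1.2))
    (fun b : IdxB B => Pi.single (Pl (b.1 : k)) y)

omit [IsScalarTower k (RatFunc k) K] [PerfectField k] in
theorem rep_eq (Pl : k → Place k K) (i : IdxA B d ⊕ IdxB B) : rep y B d Pl i =
    Pi.single (Pl (att B d i)) (y * (j RatFunc.X - algebraMap k K (att B d i)) ^ ex B d i) := by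
  rcases i with a | b <;> simp [rep, att, ex]

omit [IsScalarTower k (RatFunc k) K] [PerfectField k] in
theorem rep_mem (Pl : k → Place k K) (i : IdxA B d ⊕ IdxB B) : rep y B d Pl i ∈ adele k K := by
  rw [rep_eq]
  refine Filter.mem_cofinite.mpr ((Set.finite_singleton (Pl (att B d i))).subset fun Q hQ => ?_)
  by_contra hne
  apply hQ
  show Q.1 ((Pi.single (Pl (att B d i)) _ : Place k K → K) Q) ≤ 1
  rw [Pi.single_eq_of_ne hne, map_zero]
  exact zero_le

theorem Setup.linearIndependent_rep (s : Setup k K y f B d) (h0 : (0 : k) ∈ B) {Pl : k → Place k K}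
    (hPl : ∀ β ∈ B, (Pl β).1 (j RatFunc.X - algebraMap k K β) < 1) :
    LinearIndependent k
      (fun i => Submodule.mkQ (AD (0 : Divisor k K) ⊔ LinearMap.range (diag k K)) (rep y B d Pl i)) := by
  haveI : Fintype (IdxA B d) := Fintype.ofEquiv _ idxEquiv
  rw [Fintype.linearIndependent_iff]
  intro g hg i₀
  set q : k → Polynomial k := fun β =>
    ∑ i ∈ Finset.univ.filter (fun i => att B d i = β), monomial (ex B d i) (g i) with hqdef
  have hM : (∑ i, g i • rep y B d Pl i) ∈ AD (0 : Divisor k K) ⊔ LinearMap.range (diag k K) := by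
    rw [← Submodule.Quotient.mk_eq_zero, ← Submodule.mkQ_apply, map_sum]
    simp only [map_smul]
    exact hg
  have hsum : (∑ i, g i • rep y B d Pl i) =
      ∑ β ∈ B, (Pi.single (Pl β) (j (aeval ((RatFunc.X : RatFunc k) - RatFunc.C β) (q β)) * y) : Place k K → K) := by
    rw [← Finset.sum_fiberwise_of_maps_to (t := B) (g := att B d) (fun i _ => att_mem B d i)]
    refine Finset.sum_congr rfl fun β _ => ?_
    rw [hqdef, map_sum, map_sum, Finset.sum_mul, ← LinearMap.single_apply (R := k) (φ := fun _ => K), map_sum]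
    refine Finset.sum_congr rfl fun i hi => ?_
    obtain ⟨-, rfl⟩ := Finset.mem_filter.mp hi
    rw [rep_eq, aeval_monomial, map_mul (algebraMap (RatFunc k) K), map_pow (algebraMap (RatFunc k) K), algebraMap_C, ← IsScalarTower.algebraMap_apply,
      mul_assoc, mul_comm _ y, ← Algebra.smul_def, map_smul, LinearMap.single_apply]
  rw [hsum] at hM
  have hzero := s.coeff_eq_zero h0 hPl q (fun β hβ => ?_) ?_ hM _ (att_mem B d i₀)
  · have h1 := congrArg (fun p => Polynomial.coeff p (ex B d i₀)) hzero
    simp only [hqdef, finsetSum_coeff, coeff_monomial, coeff_zero] at h1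
    rw [Finset.sum_eq_single i₀] at h1
    · rwa [if_pos rfl] at h1
    · intro i hi hne
      rw [if_neg]
      exact fun e => hne (att_ex_injective (Prod.ext (Finset.mem_filter.mp hi).2 e))
    · exact fun hn => absurd (Finset.mem_filter.mpr ⟨Finset.mem_univ i₀, rfl⟩ : i₀ ∈ Finset.univ.filter (fun i => att B d i = att B d i₀)) hn
  · refine natDegree_sum_le_of_forall_le _ _ fun i hi => (natDegree_monomial_le _).trans ?_
    obtain ⟨-, rfl⟩ := Finset.mem_filter.mp hi
    rcases i with a | b
    · have := a.2.2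
      simp only [ex, att, Sum.elim_inl]
      omega
    · simp [ex]
  · simp only [hqdef, finsetSum_coeff, coeff_monomial]
    refine Finset.sum_eq_zero fun i hi => if_neg fun e => ?_
    rcases i with a | b
    · have := a.2.1
      simp only [ex, Sum.elim_inl] at e
      omega
    · exact b.2 (Finset.mem_filter.mp hi).2

theorem Setup.card_idx (s : Setup k K y f B d) (h0 : (0 : k) ∈ B) [Fintype (IdxA B d)] :
    Fintype.card (IdxA B d ⊕ IdxB B) = genus k K := by
  rw [Fintype.card_sum, ← Fintype.card_congr (idxEquiv (B := B) (d := d)),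
    Fintype.card_sigma, Fintype.card_subtype_compl, Fintype.card_coe]
  simp only [Fintype.card_fin]
  have hB : Fintype.card {b : ↥B // (b : k) = 0} = 1 := Fintype.card_eq_one_iff.mpr
    ⟨⟨⟨0, h0⟩, rfl⟩, fun x => Subtype.ext (Subtype.ext x.2)⟩
  have hg := s.data.genus_eq s.hK
  rw [deg_wDiv s.hd f s.hpole s.hint s.data.f_ne] at hg
  rw [hB, Finset.sum_coe_sort B (fun α => (d α - 1) / 2)]
  have h1 : ∑ α ∈ B, (d α + 1) / 2 = ∑ α ∈ B, (d α - 1) / 2 + B.card := by
    rw [Finset.card_eq_sum_ones, ← Finset.sum_add_distrib]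
    refine Finset.sum_congr rfl fun α hα => ?_
    obtain ⟨r, hr⟩ := s.hd α hα
    omega
  have h2 : 1 ≤ B.card := Finset.card_pos.mpr ⟨0, h0⟩
  have h3 : (genus k K : ℤ) = ((∑ α ∈ B, (d α + 1) / 2 : ℕ) : ℤ) - 1 := by push_cast; exact hg
  omega

/-- The repartitions `rep` span the adeles modulo `A(0) + K`. -/
theorem Setup.mem_span_rep (s : Setup k K y f B d) (h0 : (0 : k) ∈ B) {Pl : k → Place k K}
    (hPl : ∀ β ∈ B, (Pl β).1 (j RatFunc.X - algebraMap k K β) < 1) {a : Place k K → K} (ha : a ∈ adele k K) :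
    a ∈ (AD (0 : Divisor k K) ⊔ LinearMap.range (diag k K)) ⊔ Submodule.span k (Set.range (rep y B d Pl)) := by
  haveI : Fintype (IdxA B d) := Fintype.ofEquiv _ idxEquiv
  obtain ⟨h1, h2⟩ := quotient_ADK s.hK (0 : Divisor k K)
  rw [defect, deg_zero, (finrank_L_zero s.hK).2] at h2
  haveI : FiniteDimensional k (↥(adele k K) ⧸
      Submodule.comap (adele k K).subtype (AD (0 : Divisor k K) ⊔ LinearMap.range (diag k K))) := h1
  refine mem_sup_span_of_card (adele k K) _ (rep y B d Pl) (rep_mem Pl) (s.linearIndependent_rep h0 hPl) ?_ ha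
  rw [s.card_idx h0]
  have h3 : (Module.finrank k (↥(adele k K) ⧸
      Submodule.comap (adele k K).subtype (AD (0 : Divisor k K) ⊔ LinearMap.range (diag k K))) : ℤ) = genus k K := by
    rw [show (genus k K : ℤ) = genus k K - ((0 : ℤ) + 1 - ((1 : ℕ) : ℤ)) by norm_num]
    exact h2
  omega

end Groth.Agent.ASAdele24
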